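import Cfsg.Agent.Omega.FFBr.Def

/-!
# (BT), `|V/E| = 2`, the graph type (#17754, #17755): an action with a kernel gives an abstract FF situation

`H` acts through `ρ : H →* MulAut V` on the elementary abelian 2-group `V = ⟨v₀^H⟩`, `T` a Sylow 2-subgroup of `H` fixes
`v₀`, every proper subgroup over `T` lies in `M`, and `ker ρ ≤ M`.  Then `Abs` holds for the image of `H`.
-/

set_option autoImplicit false
set_option linter.unusedSectionVars false

namespace Cfsg.Agent.Omega.NearFF.Gr

open Subgroup Cfsg.Agent.Omega.FFBr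

section gen

variable {X V : Type*} [Group X] [Finite X] [Group V] [MulDistribMulAction X V]

/-- a finite group is generated by a Sylow 2-subgroup and its elements of odd order -/
theorem eq_top_of_odd (T : Sylow 2 X) (K : Subgroup X) (hT : (T : Subgroup X) ≤ K)
    (ho : ∀ x : X, Odd (orderOf x) → x ∈ K) : K = ⊤ := by
  classical
  have : Fact (Nat.Prime 2) := ⟨Nat.prime_two⟩
  -- the index of `K` is odd (it contains a Sylow group) and every element of 2-power order is conjugate into `T`
  set N : Subgroup X := closure {x : X | Odd (orderOf x)} with hN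
  have hNK : N ≤ K := (closure_le K).2 fun x hx => ho x hx
  have hNn : N.Normal := by
    constructor
    intro n hn g
    have : N.map (MulAut.conj g).toMonoidHom ≤ N := by
      rw [hN, MonoidHom.map_closure, closure_le]
      rintro _ ⟨x, hx, rfl⟩
      apply Subgroup.subset_closure
      show Odd (orderOf (g * x * g⁻¹))
      have : orderOf (g * x * g⁻¹) = orderOf x := by
        have := orderOf_injective (MulAut.conj g).toMonoidHom (MulAut.conj g).injective x
        simpa using this
      rw [this]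
      exact hx
    exact this ⟨n, hn, by simp⟩
  have hp : IsPGroup 2 (X ⧸ N) := by
    rw [IsPGroup.iff_orderOf]
    intro q
    induction q using QuotientGroup.induction_on with
    | _ x =>
      -- `x ^ (2 ^ k)` has odd order
      obtain ⟨k, m, hm, he⟩ := Nat.exists_eq_two_pow_mul_odd (orderOf_pos x).ne'
      have h1 : Odd (orderOf (x ^ 2 ^ k)) := by
        rw [orderOf_pow' x (by positivity), he, Nat.gcd_eq_right (Dvd.intro _ rfl),
          Nat.mul_div_cancel_left _ (by positivity)]
        exact hm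
      have h2 : ((x : X ⧸ N)) ^ 2 ^ k = 1 := by
        rw [← QuotientGroup.mk_pow, QuotientGroup.eq_one_iff]
        exact Subgroup.subset_closure h1
      exact (Nat.dvd_prime_pow Nat.prime_two).1 (orderOf_dvd_of_pow_eq_one h2) |>.imp fun _ h => h.2
  -- the image of `T` in `X ⧸ N` is everything
  have hs : (T : Subgroup X).map (QuotientGroup.mk' N) = ⊤ := by
    have h3 := (T.mapSurjective (QuotientGroup.mk'_surjective N)).3 (Q := ⊤) (hp.to_subgroup ⊤) le_top
    exact h3.symm
  refine eq_top_iff.2 fun x _ => ?_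
  have h4 : (QuotientGroup.mk' N) x ∈ (T : Subgroup X).map (QuotientGroup.mk' N) := by rw [hs]; trivial
  obtain ⟨t, ht, he⟩ := h4
  have h5 : t⁻¹ * x ∈ N := by
    have : (t : X ⧸ N) = (x : X ⧸ N) := he
    exact QuotientGroup.eq.1 this
  have := K.mul_mem (hT ht) (hNK h5)
  rwa [mul_inv_cancel_left] at this

/-- the elements of odd order and `T` fix `v` -/
theorem fix_of_odd (T : Sylow 2 X) {v : V} (hT : ∀ t ∈ (T : Subgroup X), t • v = v) (hv : v ∈ odd X V) (x : X) :
    x • v = v := by
  have h := eq_top_of_odd T (MulAction.stabilizer X v) (fun t ht => hT t ht) (fun x hx => hv x hx)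
  have : x ∈ MulAction.stabilizer X v := by rw [h]; trivial
  exact this

theorem smul_odd {v : V} (hv : v ∈ odd X V) (g : X) : g • v ∈ odd X V := by
  intro x hx
  have h1 : Odd (orderOf (g⁻¹ * x * g)) := by
    have := orderOf_injective (MulAut.conj g⁻¹).toMonoidHom (MulAut.conj g⁻¹).injective x
    have h2 : orderOf (g⁻¹ * x * g) = orderOf x := by simpa using this
    rw [h2]; exact hx
  have h3 := hv _ h1
  have h4 : x • g • v = g • (g⁻¹ * x * g) • v := by
    rw [smul_smul, smul_smul]; congr 1; group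
  rw [h4, h3]

end gen

/-- the data of an action with a kernel -/
structure Act {H V : Type*} [Group H] [Group V] (ρ : H →* MulAut V) (T : Sylow 2 H) (M : Subgroup H) (v₀ : V) :
    Prop where
  comm : ∀ v w : V, v * w = w * v
  sq : ∀ v : V, v * v = 1
  TM : (T : Subgroup H) ≤ M
  Mne : M ≠ ⊤
  max : ∀ K : Subgroup H, (T : Subgroup H) ≤ K → K ≤ M ∨ K = ⊤
  ker : ρ.ker ≤ M
  fix : ∀ t ∈ (T : Subgroup H), ρ t v₀ = v₀
  gen : ∀ W : Subgroup V, (∀ h, ρ h v₀ ∈ W) → W = ⊤
  mv : ∃ h, ρ h v₀ ≠ v₀

section act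

variable {H V : Type*} [Group H] [Finite H] [Group V] {ρ : H →* MulAut V} {T : Sylow 2 H} {M : Subgroup H} {v₀ : V}

instance (ρ : H →* MulAut V) : Finite ρ.range := Finite.of_surjective _ ρ.rangeRestrict_surjective

/-- the projection of `H` onto its image -/
abbrev pr (ρ : H →* MulAut V) : H →* ρ.range := ρ.rangeRestrict

theorem pr_surj (ρ : H →* MulAut V) : Function.Surjective (pr ρ) := ρ.rangeRestrict_surjective

@[simp] theorem pr_smul (ρ : H →* MulAut V) (h : H) (v : V) : pr ρ h • v = ρ h v := rfl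

/-- the image of `T` -/
noncomputable def bar (ρ : H →* MulAut V) (T : Sylow 2 H) : Sylow 2 ρ.range :=
  haveI : Fact (Nat.Prime 2) := ⟨Nat.prime_two⟩
  T.mapSurjective (pr_surj ρ)

theorem coe_bar (ρ : H →* MulAut V) (T : Sylow 2 H) : (bar ρ T : Subgroup ρ.range) = (T : Subgroup H).map (pr ρ) := rfl

theorem Act.mem_map (h : Act ρ T M v₀) {x : H} : pr ρ x ∈ M.map (pr ρ) ↔ x ∈ M := by
  constructor
  · rintro ⟨m, hm, he⟩
    have h1 : m⁻¹ * x ∈ ρ.ker := by
      rw [← ρ.ker_rangeRestrict, MonoidHom.mem_ker, map_mul, map_inv]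
      rw [show ρ.rangeRestrict m = ρ.rangeRestrict x from he, inv_mul_cancel]
    have h2 := M.mul_mem hm (h.ker h1)
    rwa [mul_inv_cancel_left] at h2
  · exact fun hx => ⟨x, hx, rfl⟩

/-- **the abstract FF situation** -/
theorem Act.abs (h : Act ρ T M v₀) : Abs ρ.range V (bar ρ T) (M.map (pr ρ)) where
  comm := h.comm
  sq := h.sq
  faith x hx := by
    apply Subtype.ext
    ext v
    exact hx v
  core N hN hp := by
    have : Fact (Nat.Prime 2) := ⟨Nat.prime_two⟩
    have := hN
    have h1 : N ≤ bar ρ T := by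
      have := hp.le_sylow_of_normal (bar ρ T)
      exact this
    rw [eq_bot_iff]
    intro n hn
    rw [mem_bot]
    apply Subtype.ext
    ext v
    show n • v = v
    have h2 : (⊤ : Subgroup V) ≤ _ := (h.gen
      { carrier := {v | ∀ n ∈ N, n • v = v}
        one_mem' := fun n _ => smul_one n
        mul_mem' := fun {a b} ha hb n hn => by rw [smul_mul', ha n hn, hb n hn]
        inv_mem' := fun {a} ha n hn => by rw [smul_inv', ha n hn] } (by
        intro x n hn
        have h3 : (pr ρ x)⁻¹ * n * pr ρ x ∈ N := by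
          have := hN.conj_mem n hn (pr ρ x)⁻¹
          rwa [inv_inv] at this
        obtain ⟨t, ht, he⟩ := h1 h3
        have h4 : ((pr ρ x)⁻¹ * n * pr ρ x) • v₀ = v₀ := by
          rw [← he]; exact h.fix t ht
        have h5 : n • pr ρ x • v₀ = pr ρ x • ((pr ρ x)⁻¹ * n * pr ρ x) • v₀ := by
          rw [smul_smul, smul_smul]; congr 1; group
        show n • pr ρ x • v₀ = pr ρ x • v₀
        rw [h5, h4])).ge
    exact h2 (mem_top v) n hn
  TM := Subgroup.map_mono h.TM
  Mne he := h.Mne (eq_top_iff.2 fun x _ => h.mem_map.1 (by rw [he]; trivial))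
  max K hK := by
    rcases h.max (K.comap (pr ρ)) (fun t ht => hK ⟨t, ht, rfl⟩) with h1 | h1
    · left
      intro x hx
      obtain ⟨y, rfl⟩ := pr_surj ρ x
      exact ⟨y, h1 hx, rfl⟩
    · right
      refine eq_top_iff.2 fun x _ => ?_
      obtain ⟨y, rfl⟩ := pr_surj ρ x
      have : y ∈ K.comap (pr ρ) := by rw [h1]; trivial
      exact this
  gen W hW := h.gen W fun x => by
    have := hW v₀ (by rintro _ ⟨t, ht, rfl⟩; exact h.fix t ht) (pr ρ x)
    exact this
  nfix := by
    obtain ⟨x, hx⟩ := h.mv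
    exact ⟨v₀, by rintro _ ⟨t, ht, rfl⟩; exact h.fix t ht, pr ρ x, hx⟩

/-- `v₀` is not fixed by the elements of odd order -/
theorem Act.notMem_odd (h : Act ρ T M v₀) : v₀ ∉ odd ρ.range V := by
  intro h0
  obtain ⟨x, hx⟩ := h.mv
  exact hx (fix_of_odd (bar ρ T) (by rintro _ ⟨t, ht, rfl⟩; exact h.fix t ht) h0 (pr ρ x))

/-- if `T` fixes only `1` and `v₀`, then `C_V(O²(H)) = 1` -/
theorem Act.odd_eq_bot [Finite V] (h : Act ρ T M v₀) (h1 : ∀ v : V, (∀ t ∈ (T : Subgroup H), ρ t v = v) → v = 1 ∨ v = v₀) :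
    odd ρ.range V = ⊥ := by
  classical
  have : Fact (Nat.Prime 2) := ⟨Nat.prime_two⟩
  by_contra hne
  -- `T` acts on the nontrivial 2-group `odd`
  let O : Subgroup V := odd ρ.range V
  let _ : MulAction (T : Subgroup H) O :=
    { smul := fun t v => ⟨pr ρ t • (v : V), smul_odd v.2 _⟩
      one_smul := fun v => Subtype.ext (by show pr ρ ((1 : (T : Subgroup H)) : H) • (v : V) = v; simp)
      mul_smul := fun s t v => Subtype.ext (by
        show pr ρ ((s * t : (T : Subgroup H)) : H) • (v : V) = pr ρ s • pr ρ t • (v : V)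
        rw [smul_smul]; simp) }
  have hp : IsPGroup 2 (T : Subgroup H) := T.2
  have hO : IsPGroup 2 O := fun v => ⟨1, Subtype.ext (by
    have := h.sq v
    simpa [pow_two] using this)⟩
  have hcard : 2 ∣ Nat.card O := by
    obtain ⟨n, hn⟩ := IsPGroup.iff_card.1 hO
    rcases n with _ | n
    · exfalso
      apply hne
      rw [pow_zero] at hn
      exact (Subgroup.card_eq_one.1 hn)
    · rw [hn, pow_succ]; exact Dvd.intro_left _ rfl
  have h1m : (1 : O) ∈ MulAction.fixedPoints (T : Subgroup H) O := fun t => Subtype.ext (by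
    show pr ρ t • (1 : V) = 1
    exact smul_one _)
  obtain ⟨w, hw, hw1⟩ := hp.exists_fixed_point_of_prime_dvd_card_of_fixed_point O hcard h1m
  have h2 : (w : V) = 1 ∨ (w : V) = v₀ := h1 w fun t ht => congrArg Subtype.val (hw ⟨t, ht⟩)
  rcases h2 with h2 | h2
  · exact hw1 (Subtype.ext h2).symm
  · exact h.notMem_odd (h2 ▸ w.2)

/-- the offender condition for a subgroup of `H` -/
theorem aoff_map {A : Subgroup H} (hc : ∀ a ∈ A, ∀ b ∈ A, a * b = b * a) (hs : ∀ a ∈ A, a * a = 1)
    (hne : ∃ a ∈ A, ∃ v, ρ a v ≠ v)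
    (hle : ∀ m n : ℕ, Nat.card A = m * n → Nat.card {a : A // ∀ v, ρ a v = v} = m →
      Nat.card V ≤ n * Nat.card {v : V // ∀ a ∈ A, ρ a v = v}) [Finite V] : AOff V (A.map (pr ρ)) := by
  classical
  refine ⟨?_, ?_, ?_, ?_⟩
  · rintro _ ⟨a, ha, rfl⟩ _ ⟨b, hb, rfl⟩
    rw [← map_mul, ← map_mul, hc a ha b hb]
  · rintro _ ⟨a, ha, rfl⟩
    rw [← map_mul, hs a ha, map_one]
  · intro h0
    obtain ⟨a, ha, v, hv⟩ := hne
    apply hv
    have : pr ρ a ∈ A.map (pr ρ) := ⟨a, ha, rfl⟩
    rw [h0, mem_bot] at this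
    show pr ρ a • v = v
    rw [this, one_smul]
  · -- count
    set C : Subgroup V := ClassTwoFusion.Quad.cv V ((A.map (pr ρ) : Subgroup ρ.range) : Set ρ.range) with hC
    have h1 : Nat.card C = Nat.card {v : V // ∀ a ∈ A, ρ a v = v} := by
      apply Nat.card_congr
      refine Equiv.subtypeEquivRight fun v => ?_
      constructor
      · intro hv a ha
        exact (show ∀ x ∈ ((A.map (pr ρ) : Subgroup ρ.range) : Set ρ.range), x • v = v from hv) (pr ρ a) ⟨a, ha, rfl⟩
      · rintro hv _ ⟨a, ha, rfl⟩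
        exact hv a ha
    let π : A →* (A.map (pr ρ) : Subgroup ρ.range) := (pr ρ).subgroupMap A
    have hπ : Function.Surjective π := (pr ρ).subgroupMap_surjective A
    have h2 : Nat.card A = Nat.card π.ker * Nat.card (A.map (pr ρ)) := by
      rw [← Nat.card_congr (QuotientGroup.quotientKerEquivOfSurjective π hπ).toEquiv, mul_comm]
      exact π.ker.card_eq_card_quotient_mul_card_subgroup
    have h3 : Nat.card {a : A // ∀ v, ρ a v = v} = Nat.card π.ker := by
      apply Nat.card_congr
      refine Equiv.subtypeEquivRight fun a => ?_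
      rw [MonoidHom.mem_ker]
      constructor
      · intro ha
        apply Subtype.ext
        apply Subtype.ext
        ext v
        exact ha v
      · intro ha v
        have : (π a : ρ.range) = 1 := congrArg Subtype.val ha
        show ((π a : ρ.range)) • v = v
        rw [this, one_smul]
    have h4 := hle _ _ h2 h3
    rw [← h1] at h4
    have h5 := C.card_mul_index
    have h6 : 0 < Nat.card C := Nat.card_pos
    rw [← h5, mul_comm] at h4
    exact Nat.le_of_mul_le_mul_right h4 h6

end act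

end Cfsg.Agent.Omega.NearFF.Gr
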