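import Cfsg.Agent.Omega.NearFF.Gr.Act

/-!
# (BT), `|V/E| = 2`, the graph type (#17755): the situation of (9) and (10)

`X` acts faithfully on `V = ⟨v₀^X⟩` (multiplicative, `Abs`), `M = C_X(v₀)`, `B ≤ T` elementary abelian of order `≥ 8`, normal
in `M`, `X = ⟨B^X⟩`, and `B` is not quadratic modulo `odd X V`.

Wanted: `BadB T M v₀ B → AbsNat F T V k → False` (part (9)) and `BadB T M v₀ B → AbsSym T V k m → False` (part (10), `2 ≤ m`).
-/

set_option autoImplicit false
set_option linter.unusedSectionVars false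

namespace Cfsg.Agent.Omega.NearFF.Gr

open Subgroup Cfsg.Agent.Omega.FFBr

/-- the situation of #17755 (9), (10) -/
structure BadB {X V : Type*} [Group X] [Finite X] [Group V] [MulDistribMulAction X V] (T : Sylow 2 X)
    (M : Subgroup X) (v₀ : V) (B : Subgroup X) : Prop where
  abs : Abs X V T M
  fix : ∀ m ∈ M, m • v₀ = v₀
  mv : v₀ ∉ odd X V
  BT : B ≤ T
  comm : ∀ a ∈ B, ∀ b ∈ B, a * b = b * a
  sq : ∀ b ∈ B, b * b = 1
  norm : ∀ m ∈ M, ∀ b ∈ B, m * b * m⁻¹ ∈ B
  top : ∀ K : Subgroup X, K.Normal → B ≤ K → K = ⊤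
  card : 8 ≤ Nat.card B
  nq : ∃ v : V, ∃ b ∈ B, ∃ c ∈ B, c • (b • v * v) * (b • v * v) ∉ odd X V

namespace BadB

variable {X V : Type*} [Group X] [Finite X] [Group V] [MulDistribMulAction X V] {T : Sylow 2 X} {M : Subgroup X}
  {v₀ : V} {B : Subgroup X}

/-- an element which is trivial on `V / odd` and on `odd` is `1` -/
theorem eq_one (h : BadB T M v₀ B) {g : X} (h1 : ∀ v : V, g • v * v ∈ odd X V) (h2 : ∀ v ∈ odd X V, g • v = v) : g = 1 := by
  -- these elements form a normal 2-subgroup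
  let N : Subgroup X :=
    { carrier := {g | (∀ v : V, g • v * v ∈ odd X V) ∧ ∀ v ∈ odd X V, g • v = v}
      one_mem' := ⟨fun v => by rw [one_smul, h.abs.sq]; exact (odd X V).one_mem, fun v _ => one_smul _ _⟩
      mul_mem' := fun {a b} ha hb => ⟨fun v => by
          have h3 := ha.1 (b • v)
          have h4 := hb.1 v
          have h5 : (a * b) • v * v = (a • b • v * (b • v)) * (b • v * v) := by
            rw [mul_smul]
            calc a • b • v * v = a • b • v * (b • v * b • v) * v := by rw [h.abs.sq, mul_one]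
              _ = _ := by simp only [mul_assoc]
          rw [h5]
          exact (odd X V).mul_mem h3 h4, fun v hv => by rw [mul_smul, hb.2 v hv, ha.2 v hv]⟩
      inv_mem' := fun {a} ha => ⟨fun v => by
          have h3 := ha.1 (a⁻¹ • v)
          rw [smul_inv_smul] at h3
          rwa [h.abs.comm], fun v hv => by rw [inv_smul_eq_iff, ha.2 v hv]⟩ }
  have hN : N.Normal := by
    constructor
    intro n hn g
    have e1 : ∀ v : V, (g * n * g⁻¹) • v * v = g • (n • (g⁻¹ • v) * (g⁻¹ • v)) := by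
      intro v
      rw [smul_mul', smul_inv_smul, mul_smul, mul_smul]
    exact ⟨fun v => by rw [e1]; exact smul_odd (hn.1 _) g, fun v hv => by
      rw [mul_smul, mul_smul, hn.2 _ (smul_odd hv g⁻¹), smul_inv_smul]⟩
  have hp : IsPGroup 2 N := by
    rintro ⟨n, hn⟩
    refine ⟨1, Subtype.ext (h.abs.faith _ fun v => ?_)⟩
    show (n ^ 2 ^ 1) • v = v
    have e2 := hn.2 _ (hn.1 v)
    rw [smul_mul'] at e2
    have e3 : n • n • v = v := by
      have e4 : n • n • v * n • v * n • v = n • v * v * n • v := by rw [e2]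
      rw [mul_assoc, h.abs.sq, mul_one] at e4
      rw [e4, h.abs.comm (n • v) v, mul_assoc, h.abs.sq, mul_one]
    rw [pow_one, pow_two, mul_smul, e3]
  have h3 := h.abs.core N hN hp
  have h4 : g ∈ N := ⟨h1, h2⟩
  rw [h3, mem_bot] at h4
  exact h4

/-- the order of a subgroup of `T` which fixes all blocks etc.: `B ≠ ⊥` -/
theorem ne_bot (h : BadB T M v₀ B) : B ≠ ⊥ := by
  intro h0
  have := h.card
  rw [h0, Subgroup.card_bot] at this
  omega

end BadB

end Cfsg.Agent.Omega.NearFF.Gr
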